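import Groth.Agent.CohtopA.GmDivFinal
import Groth.Agent.S0671

/-!
# The support of the sheaf of divisors does not contain the generic points
-/

set_option autoImplicit false
universe u

open CategoryTheory CategoryTheory.Limits AlgebraicGeometry Opposite TopologicalSpace

namespace K1.DivSupp

open Groth.Agent.CohtopA Groth.Agent.CohtopA.GmDivFun Groth.Agent.CohtopA.GmDivD
  Groth.Agent.CohtopA.GmDivK Groth.Agent.CohtopA.GmDivGen Groth.Agent.CohtopA.GmDivColim
  Groth.Agent.CohtopA.GmDivVal Groth.Agent.CohtopA.GmDivSch Groth.Agent.CohtopA.GmDivLoc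
  Groth.Agent.CohtopA.GmDivFinal

variable {X : Scheme.{u}}

/-- The open complement of the closure of a finite set of points of codimension one. -/
def offT (T : J X) : X.Opens :=
  ⟨(⋃ t ∈ TT X T, closure {t})ᶜ,
    ((finite_TT X T).isClosed_biUnion fun _ _ => isClosed_closure).isOpen_compl⟩

theorem mem_offT (T : J X) (x : X) (hx : IsGen X x) : x ∈ offT T := by
  change x ∉ (⋃ t ∈ TT X T, closure {t})
  intro h
  simp only [Set.mem_iUnion] at h
  obtain ⟨t, ht, h1⟩ := h
  have h2 : t ⤳ x := specializes_iff_mem_closure.2 h1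
  have h3 : t = x := hx.eq_of_specializes h2
  have h4 : ringKrullDim (X.presheaf.stalk t) = 1 := ht.1
  rw [h3] at h4
  have h5 : ringKrullDim (X.presheaf.stalk x) = 0 := ringKrullDim_eq_zero_of_isField hx
  rw [h5] at h4
  exact absurd h4 zero_ne_one

theorem not_mem_TT (T : J X) (y : X) (hy : y ∈ offT T) : y ∉ TT X T := by
  intro h
  apply hy
  simp only [Set.mem_iUnion]
  exact ⟨y, h, subset_closure rfl⟩

variable [AlgebraicGeometry.IsNoetherian X] [ELF X]

theorem not_mem_supp (x : X) (hx : IsGen X x) : x ∉ EtPBC.supp (D' X) := by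
  intro h
  rw [(Groth.Agent.S0671.result (D' X)).2] at h
  simp only [Set.mem_iUnion] at h
  obtain ⟨U, σ, u, hu, hux⟩ := h
  obtain ⟨V, g, ⟨v, hv⟩, s, hs⟩ := (Groth.Agent.Dix.EtaleSieve.epi_iff (Φ' X)).1 (epi_Φ' X) U σ u
  obtain ⟨V', g', ⟨v', hv'⟩, T, d, hd⟩ := exists_TT s v
  have hux' : V'.hom v' = x := by
    have h1 : g'.left ≫ V.hom = V'.hom := CategoryTheory.Over.w g'.hom
    have h2 : g.left ≫ U.hom = V.hom := CategoryTheory.Over.w g.hom
    rw [← h1, Scheme.Hom.comp_apply, hv', ← h2, Scheme.Hom.comp_apply, hv]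
    exact hux
  let O : V'.left.Opens := V'.hom ⁻¹ᵁ offT T
  have hO : v' ∈ O := by
    change V'.hom v' ∈ offT T
    rw [hux']
    exact mem_offT T x hx
  refine hu (resE V' O) (resι V' O ≫ g' ≫ g) ⟨(⟨v', hO⟩ : O), ?_⟩ ?_
  · change g.left (g'.left v') = u
    rw [hv', hv]
  · have := mono_D'ι X
    apply Groth.Agent.Dix.PointExact.sect_injective_of_mono (D'ι X)
    have e1 : (D' X).obj.map (resι V' O ≫ g' ≫ g).op σ =
        (Φ' X).hom.app (op (resE V' O)) ((K X).obj.map (resι V' O).op ((K X).obj.map g'.op s)) := by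
      have h1 : (D' X).obj.map (resι V' O ≫ g' ≫ g).op σ =
          (D' X).obj.map (resι V' O).op ((D' X).obj.map g'.op ((D' X).obj.map g.op σ)) := by
        rw [op_comp, op_comp, Functor.map_comp, Functor.map_comp]
        rfl
      rw [h1, ← hs]
      have h2 := ConcreteCategory.congr_hom ((Φ' X).hom.naturality g'.op) s
      have h3 := ConcreteCategory.congr_hom ((Φ' X).hom.naturality (resι V' O).op)
        ((K X).obj.map g'.op s)
      refine Eq.trans ?_ h3.symm
      exact congrArg (fun t => (D' X).obj.map (resι V' O).op t) h2.symm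
    have e2 : (D'ι X).hom.app (op (resE V' O)) ((D' X).obj.map (resι V' O ≫ g' ≫ g).op σ) =
        (dι X ℤ (TT X T)).hom.app (op (resE V' O))
          ((dSheaf X ℤ (TT X T)).obj.map (resι V' O).op d) := by
      rw [e1]
      have e3 : (D'ι X).hom.app (op (resE V' O)) ((Φ' X).hom.app (op (resE V' O))
          ((K X).obj.map (resι V' O).op ((K X).obj.map g'.op s))) =
          (Φ X).hom.app (op (resE V' O)) ((K X).obj.map (resι V' O).op ((K X).obj.map g'.op s)) :=
        congrArg (fun f => f.hom.app (op (resE V' O))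
          ((K X).obj.map (resι V' O).op ((K X).obj.map g'.op s))) (Φ'_D'ι X)
      have e4 := ConcreteCategory.congr_hom ((Φ X).hom.naturality (resι V' O).op)
        ((K X).obj.map g'.op s)
      have e5 := ConcreteCategory.congr_hom ((dι X ℤ (TT X T)).hom.naturality (resι V' O).op) d
      refine e3.trans (e4.trans ?_)
      refine Eq.trans ?_ e5.symm
      exact congrArg (fun t => (funSheaf X ℤ).obj.map (resι V' O).op t) hd.symm
    rw [e2, map_zero]
    funext y
    by_contra hy
    have h6 := ((dSheaf X ℤ (TT X T)).obj.map (resι V' O).op d : dSub X ℤ (TT X T) (resE V' O)).2 y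
      (fun h => hy h)
    exact not_mem_TT T _ y.2 h6

end K1.DivSupp
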