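import Groth.Agent.Dix.K1.DivSupp
import Groth.Agent.S0171
import Groth.Agent.EtpbcA.CdLeray
import Groth.Prelude.Def_EtLim
import Groth.Prelude.Def_Dix

/-!
# `H²(X, η_* G_m) = 0` for curves over a separably closed field with `H²(X, G_m) = 0`
-/

set_option autoImplicit false
universe u

open CategoryTheory CategoryTheory.Limits AlgebraicGeometry Opposite TopologicalSpace

namespace K1.DivVan

open Groth.Agent.CohtopA Groth.Agent.CohtopA.GmDivFun Groth.Agent.CohtopA.GmDivD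
  Groth.Agent.CohtopA.GmDivK Groth.Agent.CohtopA.GmDivGen Groth.Agent.CohtopA.GmDivColim
  Groth.Agent.CohtopA.GmDivFinal

section Curve

variable {κ : Type u} [Field κ] [IsSepClosed κ] (X : Scheme.{u}) (a : X ⟶ Spec (CommRingCat.of κ))
  [LocallyOfFiniteType a] [QuasiCompact a] [AlgebraicGeometry.IsNoetherian X] [ELF X]
  (hcl : ∀ x : X, ¬ IsGen X x → IsClosed ({x} : Set X))

include a hcl in
theorem subsingleton_H_D' (q : ℕ) (hq : 0 < q) : Subsingleton (EtCoh.H X (D' X) q) :=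
  Groth.Agent.S0171.result X a (D' X)
    (fun x hx => hcl x (fun h => K1.DivSupp.not_mem_supp x h hx)) q hq

include a hcl in
theorem subsingleton_H2_K (h : Subsingleton (Dix.BrCoh X)) :
    Subsingleton (EtCoh.H X (K X) 2) := by
  suffices h : ∀ c : EtCoh.H X (K X) 2, c = 0 from ⟨fun a b => (h a).trans (h b).symm⟩
  intro c
  have h1 : Abelian.Ext.comp c (Abelian.Ext.mk₀ (Φ' X)) (add_zero 2) = 0 :=
    (subsingleton_H_D' X a hcl 2 (by decide)).elim _ _
  obtain ⟨y, hy⟩ := Abelian.Ext.covariant_sequence_exact₂ _ (shortExact_divSeq X) c h1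
  have h5 : y = 0 := h.elim y 0
  rw [← hy, h5, Abelian.Ext.zero_comp]
  rfl

include a hcl in
theorem subsingleton_H2_KF (h : Subsingleton (Dix.BrCoh X)) (η : Gen X) :
    Subsingleton (EtCoh.H X (KF X η.1) 2) := by
  have h0 := subsingleton_H2_K X a hcl h
  suffices h : ∀ c : EtCoh.H X (KF X η.1) 2, c = 0 from ⟨fun a b => (h a).trans (h b).symm⟩
  intro c
  have h1 : Abelian.Ext.comp c (Abelian.Ext.mk₀ (Kι X η)) (add_zero 2) = 0 := h0.elim _ _
  have h2 := congrArg (fun z => Abelian.Ext.comp z (Abelian.Ext.mk₀ (Kπ X η)) (add_zero 2)) h1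
  have h3 : Abelian.Ext.comp (Abelian.Ext.comp c (Abelian.Ext.mk₀ (Kι X η)) (add_zero 2))
      (Abelian.Ext.mk₀ (Kπ X η)) (add_zero 2) = c := by
    rw [Abelian.Ext.comp_assoc_of_third_deg_zero, Abelian.Ext.mk₀_comp_mk₀, Kι_Kπ,
      Abelian.Ext.comp_mk₀_id]
  exact h3.symm.trans (h2.trans (Abelian.Ext.zero_comp _ _ _ _ _))

end Curve

section Iso

variable {Z Y : Scheme.{u}}

/-- `G_m ⟶ a_* G_m` is an isomorphism if `a` is. -/
theorem isIso_GmPush (a : Z ⟶ Y) [IsIso a] : IsIso (EtLim.GmPush a) := by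
  have h1 : ∀ V : Y.Etaleᵒᵖ, IsIso ((EtLim.GmPush a).hom.app V) := by
    intro V
    have h2 : IsIso (pullback.fst V.unop.hom a) := inferInstance
    exact inferInstanceAs (IsIso (EtCoh.ΓUnits.map (pullback.fst V.unop.hom a).op))
  have h3 : IsIso (EtLim.GmPush a).hom := NatIso.isIso_of_isIso_app _
  have h4 : IsIso ((sheafToPresheaf _ _).map (EtLim.GmPush a)) := h3
  exact isIso_of_fully_faithful (sheafToPresheaf _ _) (EtLim.GmPush a)

/-- Direct images of `G_m` along isomorphic morphisms. -/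
noncomputable def pushIso {X : Scheme.{u}} (g : Z ⟶ X) (i : Y ⟶ X) (a : Z ⟶ Y) [IsIso a] (w : a ≫ i = g) :
    (EtCoh.push i).obj (EtCoh.Gm Y) ≅ (EtCoh.push g).obj (EtCoh.Gm Z) :=
  haveI := isIso_GmPush a
  (EtCoh.push i).mapIso (asIso (EtLim.GmPush a)) ≪≫ (EtCoh.pushComp i a).app (EtCoh.Gm Z) ≪≫
    (EtCoh.pushCongr w).app (EtCoh.Gm Z)

end Iso

section Final

variable {κ : Type u} [Field κ] [IsSepClosed κ] (X : Scheme.{u}) (a : X ⟶ Spec (CommRingCat.of κ))
  [LocallyOfFiniteType a] [QuasiCompact a] [AlgebraicGeometry.IsNoetherian X] [ELF X]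
  (hcl : ∀ x : X, ¬ IsGen X x → IsClosed ({x} : Set X))

include a hcl in
theorem subsingleton_H2_push (h : Subsingleton (Dix.BrCoh X)) (η : X) (hη : IsGen X η) {Z : Scheme.{u}}
    (g : Z ⟶ X) (b : Z ⟶ Spec (X.residueField η)) [IsIso b] (w : b ≫ X.fromSpecResidueField η = g) :
    Subsingleton (EtCoh.H X ((EtCoh.push g).obj (EtCoh.Gm Z)) 2) :=
  Groth.Agent.EtpbcA.CdLeray.subsingleton_ext_of_iso _ (pushIso g (X.fromSpecResidueField η) b w) 2
    (subsingleton_H2_KF X a hcl h ⟨η, hη⟩)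

end Final

end K1.DivVan
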