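import Groth.Agent.Topos.H571.GmPull
import Groth.Agent.S14389

/-!
# Pullback of classes coming from a direct image, along a commutative square
-/

set_option autoImplicit false
universe u

open CategoryTheory CategoryTheory.Limits AlgebraicGeometry Opposite CategoryTheory.Abelian

namespace K1.Square

open Groth.Agent.Etrest.HPost Groth.Agent.Etcore.GmFun Groth.Agent.Sga4h.H513.LocEdge

variable {X Y X' Y' : Scheme.{u}}

theorem HofPush_post (f : X ⟶ Y) [PreservesFiniteLimits (EtCoh.pull f)] {F G : EtCoh.Ab X}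
    (φ : F ⟶ G) (q : ℕ) (ζ : EtCoh.H Y ((EtCoh.push f).obj F) q) :
    EtLim.HofPush f G q (post ((EtCoh.push f).map φ) q ζ) = post φ q (EtLim.HofPush f F q ζ) := by
  rw [Groth.Agent.S14389.HofPush_eq, Groth.Agent.S14389.HofPush_eq, Hpull_post, post_comp, post_comp]
  congr 2
  exact (EtCoh.pullPushAdj f).counit.naturality φ

theorem HGmPull_eq_post (f : X ⟶ Y) [PreservesFiniteLimits (EtCoh.pull f)] (n : ℕ)
    (x : EtCoh.H Y (EtCoh.Gm Y) n) :
    EtLim.HGmPull f n x = post (gmp f) n (EtCore.Hpull f _ n x) :=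
  Groth.Agent.Topos.H571.GmPull.HGmPull_eq f n x

/-- If `H^q(Y', f'_* G_m) = 0`, classes of `H^q(X, G_m)` coming from `H^q(Y, f_* G_m)` die on `X'`. -/
theorem HGmPull_HofPush_eq_zero (f : X ⟶ Y) (g : Y' ⟶ Y) (f' : X' ⟶ Y') (g' : X' ⟶ X)
    (w : g' ≫ f = f' ≫ g)
    [PreservesFiniteLimits (EtCoh.pull f)] [PreservesFiniteLimits (EtCoh.pull g)]
    [PreservesFiniteLimits (EtCoh.pull f')] [PreservesFiniteLimits (EtCoh.pull g')] (q : ℕ)
    (h : Subsingleton (EtCoh.H Y' ((EtCoh.push f').obj (EtCoh.Gm X')) q))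
    (ζ : EtCoh.H Y ((EtCoh.push f).obj (EtCoh.Gm X)) q) :
    EtLim.HGmPull g' q (EtLim.HofPush f (EtCoh.Gm X) q ζ) = 0 := by
  rw [HGmPull_eq_post, Groth.Agent.S14389.result f g f' g' w]
  refine (HofPush_post f' (gmp g') q _).symm.trans ?_
  rw [h.elim (post ((EtCoh.push f').map (gmp g')) q _) 0, map_zero]

end K1.Square
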