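import Groth.Agent.Etcore.GmFun
import Groth.Agent.Sga4h.EtaleRes2
import Groth.Agent.Dix.K1.Square

/-!
# `j⁻¹ G_m ⟶ G_m` is an isomorphism for `j` étale
-/

set_option autoImplicit false
universe u

open CategoryTheory CategoryTheory.Limits AlgebraicGeometry Opposite CategoryTheory.Abelian

namespace K1.GmpEtale

open Groth.Agent.Etcore.GmFun Groth.Agent.Sga4h Groth.Agent.Sga4h.EtaleRes
  Groth.Agent.Sga4h.EtaleRes2 Groth.Agent.Etrest.HPost

variable {U X : Scheme.{u}} (j : U ⟶ X) [Etale j]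

theorem unit_restr_gm [EtShriek.JCont j] :
    (restrPushAdj j).unit.app (EtCoh.Gm X) ≫ (EtCoh.push j).map (GmRestr j).hom = gmUnit j := rfl

theorem gmp_eq_pullGm : gmp j = (pullGm j).hom := by
  have i1 : EtShriek.JCont j := jCont j
  have h1 : (EtCoh.pullPushAdj j).unit.app (EtCoh.Gm X) ≫ (EtCoh.push j).map (pullGm j).hom =
      gmUnit j := by
    have h2 : (pullGm j).hom = (pullIsoRestr j).hom.app (EtCoh.Gm X) ≫ (GmRestr j).hom := rfl
    rw [h2, Functor.map_comp, ← Category.assoc, unit_pullIsoRestr, unit_restr_gm]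
  apply ((EtCoh.pullPushAdj j).homEquiv _ _).injective
  rw [Adjunction.homEquiv_unit, Adjunction.homEquiv_unit, unit_gmp]
  exact h1.symm

instance isIso_gmp : IsIso (gmp j) := by
  rw [gmp_eq_pullGm]
  infer_instance

/-- A class of `G_m` dies under `HGmPull j` iff it dies under `Hpull j`, `j` étale. -/
theorem Hpull_eq_zero_of_HGmPull [PreservesFiniteLimits (EtCoh.pull j)] (n : ℕ)
    (x : EtCoh.H X (EtCoh.Gm X) n) (h : EtLim.HGmPull j n x = 0) :
    EtCore.Hpull j (EtCoh.Gm X) n x = 0 := by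
  have h1 : post (gmp j) n (EtCore.Hpull j (EtCoh.Gm X) n x) = 0 :=
    (K1.Square.HGmPull_eq_post j n x).symm.trans h
  have h2 := congrArg (post (inv (gmp j)) n) h1
  rw [post_comp, IsIso.hom_inv_id, post_id, map_zero] at h2
  exact h2

end K1.GmpEtale
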