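import Groth.Agent.Dix.K1.KillFinite
import Groth.Agent.Dix.K1.GmpEtale
import Groth.Agent.Dix.K281.BrGlue
import Groth.Agent.Dix.K280.PointHilb
import Groth.Agent.Sga5.LowLeray

/-!
# Classes of `H²(K, G_m)` dying over the separable closure of the base field come from `H²(X, g_* G_m)`
-/

set_option autoImplicit false
universe u

open CategoryTheory CategoryTheory.Limits AlgebraicGeometry Opposite

namespace K1.Glue

open Groth.Agent.Pi1B.LimField

variable {k ks K : Type u} [Field k] [Field ks] [Algebra k ks] [Field K]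

/-- The étale cover `X_F → X`. -/
noncomputable def cov {X : Scheme.{u}} (f : X ⟶ Spec (CommRingCat.of k)) (F : Type u) [Field F] [Algebra k F]
    [Etale (toBase k F)] : X.Etale :=
  haveI : Etale (pullback.fst f (toBase k F)) :=
    MorphismProperty.of_isPullback (P := @Etale) (IsPullback.of_hasPullback f (toBase k F)).flip inferInstance
  Scheme.Etale.mk (pullback.fst f (toBase k F))

theorem surj_cov {X : Scheme.{u}} (f : X ⟶ Spec (CommRingCat.of k)) (F : Type u) [Field F] [Algebra k F]
    [Etale (toBase k F)] (x : X) : x ∈ Set.range (cov f F).hom := by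
  have h1 : Surjective (toBase k F) := ⟨fun y => ⟨IsLocalRing.closedPoint F, Subsingleton.elim _ _⟩⟩
  have h2 : Surjective (pullback.fst f (toBase k F)) :=
    MorphismProperty.of_isPullback (P := @Surjective) (IsPullback.of_hasPullback f (toBase k F)).flip h1
  exact h2.surj x

theorem etale_toBase (F : Type u) [Field F] [Algebra k F] [FiniteDimensional k F]
    [Algebra.IsSeparable k F] : Etale (toBase k F) := by
  have h1 : Algebra.FormallyEtale k F := Algebra.FormallyEtale.of_isSeparable k F
  have h2 : Algebra.FinitePresentation k F := (Algebra.FinitePresentation.of_finiteType).1 inferInstance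
  have : Algebra.Etale k F := ⟨h1, h2⟩
  have h : (algebraMap k F).Etale := (RingHom.etale_algebraMap).2 this
  exact (HasRingHomProperty.Spec_iff (P := @Etale)).2 h

attribute [local instance] K1.KillFinite.pfl

theorem exists_HofPush_eq [Algebra.IsAlgebraic k ks] [Algebra.IsSeparable k ks] {X : Scheme.{u}}
    [QuasiSeparatedSpace X] (f : X ⟶ Spec (CommRingCat.of k)) (g : Spec (CommRingCat.of K) ⟶ X)
    (e : EtCoh.H (Spec (CommRingCat.of K)) (EtCoh.Gm (Spec (CommRingCat.of K))) 2)
    (he : EtLim.HGmPull (pullback.fst (g ≫ f) (toBase k ks)) 2 e = 0) :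
    ∃ ξ : EtCoh.H X ((EtCoh.push g).obj (EtCoh.Gm (Spec (CommRingCat.of K)))) 2,
      EtLim.HofPush g (EtCoh.Gm (Spec (CommRingCat.of K))) 2 ξ = e := by
  obtain ⟨F, hF⟩ := K1.KillFinite.exists_finite k ks (g ≫ f) 2 e he
  have i1 : Algebra.IsSeparable k F.1 := inferInstance
  have i2 : FiniteDimensional k F.1 := F.2
  have i3 : Etale (toBase k F.1) := etale_toBase F.1
  have h0 : IsZero ((EtCoh.Rpush g 1).obj (EtCoh.Gm (Spec (CommRingCat.of K)))) :=
    K280.PointHilb.isZero_Rpush_one g
  have hS := Groth.Agent.Sga5.LowLeray.seq_shortExact (EtCoh.Gm (Spec (CommRingCat.of K)))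
  have h1 : Epi ((EtCoh.push g).map
      (Groth.Agent.Sga5.LowLeray.seq (EtCoh.Gm (Spec (CommRingCat.of K)))).g) :=
    Groth.Agent.Sga5.LowLeray.epi_of_isZero hS h0
  have hJ : Injective (Groth.Agent.Sga5.LowLeray.seq (EtCoh.Gm (Spec (CommRingCat.of K)))).X₂ :=
    inferInstanceAs (Injective (Injective.under (EtCoh.Gm (Spec (CommRingCat.of K)))))
  refine K281.BrGlue.exists_HofPush_eq g hS h1 e (fun x => ⟨cov f F.1, surj_cov f F.1 x,
    inferInstance, ?_⟩)
  have i4 : Etale ((EtCoh.bc g).obj (cov f F.1)).hom := ((EtCoh.bc g).obj (cov f F.1)).prop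
  refine K1.GmpEtale.Hpull_eq_zero_of_HGmPull ((EtCoh.bc g).obj (cov f F.1)).hom 2 e ?_
  have hw : pullback.snd (pullback.fst f (toBase k F.1)) g ≫ g ≫ f =
      (pullback.fst (pullback.fst f (toBase k F.1)) g ≫ pullback.snd f (toBase k F.1)) ≫
        toBase k F.1 := by
    rw [Category.assoc, ← pullback.condition (f := f), ← Category.assoc, ← Category.assoc,
      ← pullback.condition (f := pullback.fst f (toBase k F.1))]
  have h3 := K280.GmPullComp.HGmPull_comp (pullback.lift
    (pullback.snd (pullback.fst f (toBase k F.1)) g)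
    (pullback.fst (pullback.fst f (toBase k F.1)) g ≫ pullback.snd f (toBase k F.1)) hw)
    (pullback.fst (g ≫ f) (toBase k F.1)) ((EtCoh.bc g).obj (cov f F.1)).hom
    (pullback.lift_fst _ _ _) 2 e
  rw [hF, map_zero] at h3
  exact h3.symm

end K1.Glue
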