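import Groth.Agent.S3885
import Groth.Agent.Pi1B.LimField
import Groth.Agent.Dix.K280.GmPullComp
import Groth.Agent.S0101

/-!
# Classes of `G_m` dying over an algebraic extension die over a finite subextension
-/

set_option autoImplicit false
universe u

open CategoryTheory CategoryTheory.Limits AlgebraicGeometry Opposite

namespace K1.KillFinite

open Groth.Agent.Pi1B Groth.Agent.Pi1B.LimField

theorem pfl {X Y : Scheme.{u}} (f : X ⟶ Y) : PreservesFiniteLimits (EtCoh.pull f) :=
  Groth.Agent.S0101.result f

attribute [local instance] pfl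

variable (k ks : Type u) [Field k] [Field ks] [Algebra k ks] [Algebra.IsAlgebraic k ks]

theorem exists_finite {Y : Scheme.{u}} (f : Y ⟶ Spec (CommRingCat.of k)) [CompactSpace Y]
    [QuasiSeparatedSpace Y] (n : ℕ) (e : EtCoh.H Y (EtCoh.Gm Y) n)
    (h : EtLim.HGmPull (pullback.fst f (toBase k ks)) n e = 0) :
    ∃ F : FinSub k ks, EtLim.HGmPull (pullback.fst f (toBase k F.1)) n e = 0 := by
  have haff : ∀ ⦃a b : (FinSub k ks)ᵒᵖ⦄ (t : a ⟶ b), IsAffineHom ((diag k ks f).map t) := fun a b t =>
    MorphismProperty.of_isPullback (P := @IsAffineHom)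
      (LimPull.isPullback_map (specFunctor k ks) (specBase k ks) f t).flip inferInstance
  have hfst : ∀ a : (FinSub k ks)ᵒᵖ, IsAffineHom (LimPull.fst (specFunctor k ks) (specBase k ks) f a) :=
    fun a => MorphismProperty.of_isPullback (P := @IsAffineHom)
      (LimPull.isPullback (specFunctor k ks) (specBase k ks) f a).flip
      (inferInstanceAs (IsAffineHom (toBase k a.unop.1)))
  have hqc : ∀ a, CompactSpace ↥((diag k ks f).obj a) := fun a =>
    QuasiCompact.compactSpace_of_compactSpace (LimPull.fst (specFunctor k ks) (specBase k ks) f a)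
  have hqs : ∀ a, QuasiSeparatedSpace ↥((diag k ks f).obj a) := fun a =>
    quasiSeparatedSpace_of_quasiSeparated (LimPull.fst (specFunctor k ks) (specBase k ks) f a)
  have hS := (Groth.Agent.S3885.result (ι := FinSub k ks) (diag k ks f) haff hqc hqs
    (cone k ks f) (isLimitCone k ks f) n).2
  let j : FinSub k ks := ⟨⊥, inferInstance⟩
  obtain ⟨F, hF, h1⟩ := hS j
    (EtLim.HGmPull (LimPull.fst (specFunctor k ks) (specBase k ks) f (op j)) n e) (by
      refine (K280.GmPullComp.HGmPull_comp ((cone k ks f).π.app (op j))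
        (LimPull.fst (specFunctor k ks) (specBase k ks) f (op j)) (pullback.fst f (toBase k ks))
        (LimPull.pullCone_fst _ _ _ _ _ _ _) n e).trans h)
  refine ⟨F, ?_⟩
  have h2 := K280.GmPullComp.HGmPull_comp ((diag k ks f).map (homOfLE hF).op)
    (LimPull.fst (specFunctor k ks) (specBase k ks) f (op j))
    (LimPull.fst (specFunctor k ks) (specBase k ks) f (op F)) (LimPull.map_fst _ _ _ _) n e
  exact h2.symm.trans h1

end K1.KillFinite
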